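import Cfsg.Agent.Lib.MultW.Rels
import Cfsg.Agent.Lib.Schur.PerfectCover

/-!
The relations lift through central extensions. A long root element is the commutator of lifts of two short root
elements; this does not depend on the choices once lifts of a commuting long and short root element commute.
-/

set_option autoImplicit false

namespace Cfsg.Agent.MultW

open Cfsg.Agent.CurtisTits DType
open scoped commutatorElement

universe u

section comm

variable {Γ G : Type*} [Group Γ] [Group G] (π : Γ →* G)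

theorem comm_central (hz : π.ker ≤ Subgroup.center Γ) {a b : Γ} (h : Commute (π a) (π b)) :
    ⁅a, b⁆ ∈ Subgroup.center Γ :=
  hz (by rw [MonoidHom.mem_ker, map_commutatorElement, commutatorElement_eq_one_iff_commute]; exact h)

/-- Commuting is decided by any lifts. -/
theorem commute_congr (hz : π.ker ≤ Subgroup.center Γ) {a a' b b' : Γ} (ha : π a = π a') (hb : π b = π b')
    (h : Commute a b) : Commute a' b' := by
  rw [← commutatorElement_eq_one_iff_commute] at h ⊢
  rw [← Schur.commutator_congr hz ha hb, h]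

/-- An element commuting modulo the centre with `a` and `b` commutes with their commutator. -/
theorem commute_comm (hz : π.ker ≤ Subgroup.center Γ) {g a b c : Γ} (ha : Commute (π g) (π a))
    (hb : Commute (π g) (π b)) (hc : π c = π ⁅a, b⁆) : Commute g c := by
  refine commute_congr π hz rfl hc.symm ?_
  have e : g * ⁅a, b⁆ * g⁻¹ = ⁅a, b⁆ := by
    rw [show g * ⁅a, b⁆ * g⁻¹ = ⁅g * a * g⁻¹, g * b * g⁻¹⁆ by simp only [commutatorElement_def]; group]
    refine Schur.commutator_congr hz ?_ ?_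
    · rw [map_mul, map_mul, map_inv, ha.eq, mul_inv_cancel_right]
    · rw [map_mul, map_mul, map_inv, hb.eq, mul_inv_cancel_right]
  exact mul_inv_eq_iff_eq_mul.1 e

theorem comm_mul_right (a b c : Γ) : ⁅a, b * c⁆ = ⁅a, b⁆ * (b * ⁅a, c⁆ * b⁻¹) := by
  simp only [commutatorElement_def]; group

theorem comm_mul_left (a b c : Γ) : ⁅a * b, c⁆ = a * ⁅b, c⁆ * a⁻¹ * ⁅a, c⁆ := by
  simp only [commutatorElement_def]; group

theorem conj_fix {g a : Γ} (h : Commute g a) : g * a * g⁻¹ = a := by rw [h.eq, mul_inv_cancel_right]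

end comm

variable {K : Type u} [Field K] {κ : Type} {qW : QuadraticForm K (κ → K)} {n : ℕ}

theorem third (hn : 3 ≤ n) (i j : Fin n) : ∃ m, m ≠ i ∧ m ≠ j := by
  have : ({i, j} : Finset (Fin n))ᶜ.Nonempty := by
    rw [← Finset.card_pos, Finset.card_compl, Fintype.card_fin]
    have := Finset.card_le_two (a := i) (b := j)
    omega
  obtain ⟨m, hm⟩ := this
  simp at hm
  exact ⟨m, hm.1, hm.2⟩

/-- A way of showing that a long and a short root element on three levels have commuting lifts. -/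
def Kill {G : Type*} [Group G] (φ : RelsW qW n G) : Prop :=
  4 ≤ n ∨
  (∃ (g : G) (σ : (κ → K) → (κ → K)), (∀ w, ∃ v, σ v = v + w) ∧
    (∀ a b, lv a ≠ lv b → ∀ t, g * φ.x a b t * g⁻¹ = φ.x a b t) ∧ ∀ a w, g * φ.y a w * g⁻¹ = φ.y a (σ w)) ∨
  (∀ p r, lv p ≠ lv r → ∃ (g : G) (μ : K), μ ≠ 1 ∧ (∀ t, g * φ.x p r t * g⁻¹ = φ.x p r (μ * t)) ∧
    ∀ c, lv c ≠ lv p → lv c ≠ lv r → ∀ w, g * φ.y c w * g⁻¹ = φ.y c w)

variable {Γ G : Type*} [Group Γ] [Group G] {π : Γ →* G} (hπ : Function.Surjective π)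
  (hz : π.ker ≤ Subgroup.center Γ) (φ : RelsW qW n G)

include hπ hz in
/-- Lifts of a commuting long and short root element commute. -/
theorem commute_long_short (hn : 3 ≤ n) (hk : Kill φ) {p r c : SIdx n} (h : lv p ≠ lv r) (h1 : c ≠ r)
    (h2 : c ≠ ng p) (t : K) (w : κ → K) {g g' : Γ} (hg : π g = φ.x p r t) (hg' : π g' = φ.y c w) :
    Commute g g' := by
  have dec : ∀ m : SIdx n, lv m ≠ lv p → lv m ≠ lv r → lv m ≠ lv c → Commute g g' := by
    intro m mp mr mc
    obtain ⟨A, hA⟩ := hπ (φ.x p m t)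
    obtain ⟨B, hB⟩ := hπ (φ.x m r 1)
    have e := φ.chain p m r mp.symm mr h t 1
    rw [mul_one] at e
    have hc : π g = π ⁅A, B⁆ := by
      rw [hg, map_commutatorElement, hA, hB, commutatorElement_def, e]; group
    refine (commute_comm π hz ?_ ?_ hc).symm
    · rw [hg', hA]
      exact (φ.xy0 p m c mp.symm (fun e => mc (congrArg lv e.symm)) h2 t w).symm
    · rw [hg', hB]
      exact (φ.xy0 m r c mr h1 (fun e => mc (by rw [e, lv_ng])) 1 w).symm
  by_cases hl : lv c = lv p ∨ lv c = lv r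
  · obtain ⟨m, m1, m2⟩ := third hn (lv p) (lv r)
    refine dec (Sum.inl m) m1 m2 ?_
    rcases hl with h' | h' <;> rw [h']
    · exact m1
    · exact m2
  rw [not_or] at hl
  rcases hk with h4 | ⟨γ, σ, hσ, hγx, hγy⟩ | hs
  · have : ({lv p, lv r, lv c} : Finset (Fin n))ᶜ.Nonempty := by
      rw [← Finset.card_pos, Finset.card_compl, Fintype.card_fin]
      have := Finset.card_le_three (a := lv p) (b := lv r) (c := lv c)
      omega
    obtain ⟨m, hm⟩ := this
    simp at hm
    exact dec (Sum.inl m) hm.1 hm.2.1 hm.2.2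
  · obtain ⟨v, hv⟩ := hσ w
    obtain ⟨γ', hγ'⟩ := hπ γ
    obtain ⟨Y, hY⟩ := hπ (φ.y c v)
    obtain ⟨Y', hY'⟩ := hπ (φ.y c (σ v))
    have cen : ⁅g, Y⁆ ∈ Subgroup.center Γ := comm_central π hz (by rw [hg, hY]; exact φ.xy0 p r c h h1 h2 t v)
    have cen' : ⁅g, g'⁆ ∈ Subgroup.center Γ := comm_central π hz (by rw [hg, hg']; exact φ.xy0 p r c h h1 h2 t w)
    have e1 : ⁅g, Y'⁆ = ⁅g, Y⁆ * ⁅g, g'⁆ := by
      rw [Schur.commutator_congr hz (a' := g) (b' := Y * g') rfl (by
        rw [map_mul, hY', hY, hg', ← φ.yadd, hv]), comm_mul_right,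
        Subgroup.mem_center_iff.1 cen' Y, mul_inv_cancel_right]
    have e2 : ⁅g, Y'⁆ = ⁅g, Y⁆ := by
      calc ⁅g, Y'⁆ = ⁅γ' * g * γ'⁻¹, γ' * Y * γ'⁻¹⁆ := by
            refine Schur.commutator_congr hz ?_ ?_
            · rw [map_mul, map_mul, map_inv, hγ', hg, hγx p r h]
            · rw [map_mul, map_mul, map_inv, hγ', hY, hY', hγy]
        _ = γ' * ⁅g, Y⁆ * γ'⁻¹ := by simp only [commutatorElement_def]; group
        _ = ⁅g, Y⁆ := by rw [Subgroup.mem_center_iff.1 cen γ', mul_inv_cancel_right]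
    rw [← commutatorElement_eq_one_iff_commute]
    exact mul_eq_left.1 (e1.symm.trans e2)
  · obtain ⟨γ, μ, hμ, hγx, hγy⟩ := hs p r h
    obtain ⟨γ', hγ'⟩ := hπ γ
    set s := t / (μ - 1) with hs'
    obtain ⟨X, hX⟩ := hπ (φ.x p r s)
    obtain ⟨X', hX'⟩ := hπ (φ.x p r (μ * s))
    have cen : ⁅X, g'⁆ ∈ Subgroup.center Γ := comm_central π hz (by rw [hX, hg']; exact φ.xy0 p r c h h1 h2 s w)
    have hs1 : s + t = μ * s := by rw [hs']; field_simp [sub_ne_zero.2 hμ]; ring
    have e1 : ⁅X', g'⁆ = ⁅X, g'⁆ * ⁅g, g'⁆ := by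
      rw [Schur.commutator_congr hz (a' := g * X) (b' := g') (by
        rw [map_mul, hX', hX, hg, ← φ.add p r h, add_comm, hs1]) rfl, comm_mul_left,
        Subgroup.mem_center_iff.1 cen g, mul_inv_cancel_right]
    have e2 : ⁅X', g'⁆ = ⁅X, g'⁆ := by
      calc ⁅X', g'⁆ = ⁅γ' * X * γ'⁻¹, γ' * g' * γ'⁻¹⁆ := by
            refine Schur.commutator_congr hz ?_ ?_
            · rw [map_mul, map_mul, map_inv, hγ', hX, hX', hγx]
            · rw [map_mul, map_mul, map_inv, hγ', hg', hγy c hl.1 hl.2]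
        _ = γ' * ⁅X, g'⁆ * γ'⁻¹ := by simp only [commutatorElement_def]; group
        _ = ⁅X, g'⁆ := by rw [Subgroup.mem_center_iff.1 cen γ', mul_inv_cancel_right]
    rw [← commutatorElement_eq_one_iff_commute]
    exact mul_eq_left.1 (e1.symm.trans e2)

include hπ hz in
/-- **The relations lift through central extensions.** -/
theorem exists_liftW (hn : 3 ≤ n) (hk : Kill φ) (w₁ v₁ : κ → K)
    (hB : QuadraticMap.polar (⇑qW) w₁ v₁ = -1) :
    ∃ S : RelsW qW n Γ, (∀ a b, lv a ≠ lv b → ∀ t, π (S.x a b t) = φ.x a b t) ∧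
      ∀ a w, π (S.y a w) = φ.y a w := by
  classical
  set P : (κ → K) → (κ → K) → K := QuadraticMap.polar (⇑qW) with hP
  choose yl hyl using fun a w => hπ (φ.y a w)
  choose xl hxl using fun a b t => hπ (φ.x a b t)
  have L1 : ∀ {p r c : SIdx n}, lv p ≠ lv r → c ≠ r → c ≠ ng p → ∀ (t : K) (w : κ → K) {g g' : Γ},
      π g = φ.x p r t → π g' = φ.y c w → Commute g g' := fun h h1 h2 t w _ _ hg hg' =>
    commute_long_short hπ hz φ hn hk h h1 h2 t w hg hg'
  have yy' : ∀ a b, lv a ≠ lv b → ∀ w v, π ⁅yl a w, yl b v⁆ = φ.x a (ng b) (-P w v) := by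
    intro a b h w v
    rw [map_commutatorElement, hyl, hyl, commutatorElement_def, φ.yy a b h]
    group
    rfl
  have hB' : ∀ t : K, -P (t • w₁) v₁ = t := fun t => by
    rw [hP, QuadraticMap.polar_smul_left, smul_eq_mul, ← hP, hB, mul_neg_one, neg_neg]
  -- long root elements with disjoint conditions
  have hcomm : ∀ a b c d, lv a ≠ lv b → lv c ≠ lv d → a ≠ d → b ≠ c → a ≠ ng c → b ≠ ng d → ∀ t u,
      ∀ {g g' : Γ}, π g = φ.x a b t → π g' = φ.x c d u → Commute g g' := by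
    intro a b c d h1 h2 had hbc hac hbd t u g g' hg hg'
    have hcd : lv c ≠ lv (ng d) := by rwa [lv_ng]
    refine commute_comm π hz (a := yl c (u • w₁)) (b := yl (ng d) v₁) ?_ ?_ ?_
    · rw [hg, hyl]; exact φ.xy0 a b c h1 hbc.symm (fun e => hac (by rw [e, ng_ng])) t _
    · rw [hg, hyl]; exact φ.xy0 a b (ng d) h1 hbd.symm (fun e => had (ng_inj.1 e).symm) t _
    · rw [hg', yy' c (ng d) hcd, ng_ng, hB']
  -- the commutator of two short root elements
  have T : ∀ (a b c : SIdx n), lv b ≠ lv c → lv a ≠ lv c → a ≠ ng b → ∀ w v,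
      (∀ {g g' : Γ}, π g = φ.x a (ng c) (-P w v) → π g' = φ.x b (ng c) (qW v) → Commute g g') →
      ⁅yl a w, yl b v⁆ = ⁅xl b c 1, xl a (ng c) (-P w v)⁆ := by
    intro a b c hbc hac hab w v hSR
    have n2 := lv_ne.1 hac
    have n3 := lv_ne.1 hbc
    set X1 := xl b c 1 with hX1
    set S := xl a (ng c) (-P w v) with hS
    set R' := xl b (ng c) (qW v) with hR'
    set V := ⁅X1, yl c v⁆ with hV
    have hbc' : lv b ≠ lv (ng c) := by rwa [lv_ng]
    have hac' : lv a ≠ lv (ng c) := by rwa [lv_ng]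
    have hπV : π V = φ.y b v * φ.x b (ng c) (qW v) := by
      rw [hV, map_commutatorElement, hxl, hyl, commutatorElement_def, φ.xy1 b c hbc, one_smul, one_mul]
      group
    have cA : Commute (yl a w) X1 := (L1 hbc n2.1 hab 1 w (hxl _ _ _) (hyl _ _)).symm
    have cR : Commute (yl a w) R' := (L1 hbc' n2.2 hab _ w (hxl _ _ _) (hyl _ _)).symm
    have cS : Commute S V := by
      have e1 : Commute S (yl b v) := L1 hac' n3.2 (fun e => hab (by rw [e, ng_ng])) _ v (hxl _ _ _) (hyl _ _)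
      have e2 : Commute S R' := hSR (hxl _ _ _) (hxl _ _ _)
      exact commute_congr π hz rfl (by rw [map_mul, hyl, hxl, hπV]) (e1.mul_right e2)
    have k0 : ⁅yl a w, yl b v⁆ = ⁅yl a w, V * R'⁻¹⁆ := by
      refine Schur.commutator_congr hz rfl ?_
      rw [map_mul, map_inv, hπV, hxl, hyl, mul_inv_cancel_right]
    have k1 : yl a w * V * (yl a w)⁻¹ = ⁅X1, S⁆ * V := by
      calc yl a w * V * (yl a w)⁻¹ = ⁅yl a w * X1 * (yl a w)⁻¹, yl a w * yl c v * (yl a w)⁻¹⁆ := by
            rw [hV]; simp only [commutatorElement_def]; group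
        _ = ⁅X1, S * yl c v⁆ := by
            refine Schur.commutator_congr hz (by rw [conj_fix cA]) ?_
            rw [map_mul, map_mul, map_inv, map_mul, hyl, hyl, hxl, φ.yy a c hac, mul_inv_cancel_right]
        _ = _ := by rw [comm_mul_right, conj_fix cS]
    rw [k0, commutatorElement_def, mul_inv_rev, inv_inv,
      show yl a w * (V * R'⁻¹) * (yl a w)⁻¹ * (R' * V⁻¹) =
        yl a w * V * (yl a w)⁻¹ * (yl a w * R'⁻¹ * (yl a w)⁻¹) * (R' * V⁻¹) by group,
      k1, conj_fix cR.inv_right]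
    group
  have Tlong : ∀ a b c : SIdx n, lv b ≠ lv c → lv a ≠ lv c → lv a ≠ lv b → ∀ w v,
      ⁅yl a w, yl b v⁆ = ⁅xl b c 1, xl a (ng c) (-P w v)⁆ := by
    intro a b c hbc hac hab w v
    refine T a b c hbc hac (lv_ne.1 hab).2 w v fun hg hg' => ?_
    refine hcomm a (ng c) b (ng c) (by rwa [lv_ng]) (by rwa [lv_ng]) (fun e => hac ?_) (fun e => hbc ?_)
      (lv_ne.1 hab).2 (ng_ne _).symm _ _ hg hg'
    · rw [e, lv_ng]
    · rw [← e, lv_ng]
  have ylevel : ∀ a b : SIdx n, ∃ c : SIdx n, lv a ≠ lv c ∧ lv b ≠ lv c := fun a b => by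
    obtain ⟨m, m1, m2⟩ := third hn (lv a) (lv b)
    exact ⟨Sum.inl m, m1.symm, m2.symm⟩
  let X : SIdx n → SIdx n → K → Γ := fun a b t => ⁅yl a (t • w₁), yl (ng b) v₁⁆
  have hX : ∀ a b, lv a ≠ lv b → ∀ t, π (X a b t) = φ.x a b t := by
    intro a b h t
    rw [yy' a (ng b) (by rwa [lv_ng]), ng_ng, hB']
  have hyX : ∀ a b, lv a ≠ lv b → ∀ w v, ⁅yl a w, yl b v⁆ = X a (ng b) (-P w v) := by
    intro a b h w v
    obtain ⟨c, hac, hbc⟩ := ylevel a b
    show _ = ⁅yl a ((-P w v) • w₁), yl (ng (ng b)) v₁⁆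
    rw [ng_ng, Tlong a b c hbc hac h, Tlong a b c hbc hac h, hB']
  have hadd : ∀ a b, lv a ≠ lv b → ∀ t u, X a b (t + u) = X a b t * X a b u := by
    intro a b h t u
    obtain ⟨c, hac, hbc⟩ := ylevel a b
    have hb : lv a ≠ lv (ng b) := by rwa [lv_ng]
    have hbc' : lv (ng b) ≠ lv c := by rwa [lv_ng]
    have hac' : lv a ≠ lv (ng c) := by rwa [lv_ng]
    show ⁅yl a ((t + u) • w₁), yl (ng b) v₁⁆ = ⁅yl a (t • w₁), yl (ng b) v₁⁆ * ⁅yl a (u • w₁), yl (ng b) v₁⁆
    rw [Tlong a (ng b) c hbc' hac hb, Tlong a (ng b) c hbc' hac hb, Tlong a (ng b) c hbc' hac hb, hB', hB', hB',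
      Schur.commutator_congr hz (a' := xl (ng b) c 1) (b' := xl a (ng c) t * xl a (ng c) u) rfl
        (by rw [map_mul, hxl, hxl, hxl, φ.add a (ng c) hac']), comm_mul_right]
    congr 1
    refine conj_fix ?_
    -- the commutator is a lift of the root element of `(a, b)`
    have hi : π ⁅xl (ng b) c 1, xl a (ng c) u⁆ = φ.x a b u := by
      have := congrArg π (Tlong a (ng b) c hbc' hac hb (u • w₁) v₁)
      rw [hB'] at this
      rw [← this]
      exact hX a b h u
    exact hcomm a (ng c) a b hac' h (lv_ne.1 h).1 (fun e => hac (by rw [← e, lv_ng])) (ng_ne a).symm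
      (fun e => (lv_ne.1 hbc).1 (ng_inj.1 e).symm) t u (hxl _ _ _) hi
  have hzero : ∀ a b, lv a ≠ lv b → X a b 0 = 1 := fun a b h => SL2Presentation.psi_zero (hadd a b h)
  have hneg : ∀ a b, lv a ≠ lv b → ∀ t, X a b (-t) = (X a b t)⁻¹ := fun a b h t => by
    apply eq_inv_of_mul_eq_one_left
    rw [← hadd a b h, neg_add_cancel, hzero a b h]
  have hsymm : ∀ a b, lv a ≠ lv b → ∀ t, X (ng b) (ng a) t = X a b (-t) := by
    intro a b h t
    have hb : lv a ≠ lv (ng b) := by rwa [lv_ng]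
    show ⁅yl (ng b) (t • w₁), yl (ng (ng a)) v₁⁆ = _
    rw [ng_ng, ← commutatorElement_inv, hyX a (ng b) hb, ng_ng, ← hneg a b h]
    congr 2
    rw [hP]
    simp only [QuadraticMap.polar_comm _ v₁]
    exact hB' t
  have hcommX : ∀ a b c d, lv a ≠ lv b → lv c ≠ lv d → a ≠ d → b ≠ c → a ≠ ng c → b ≠ ng d → ∀ t u,
      Commute (X a b t) (X c d u) := fun a b c d h1 h2 h3 h4 h5 h6 t u =>
    hcomm a b c d h1 h2 h3 h4 h5 h6 t u (hX a b h1 t) (hX c d h2 u)
  have hchain : ∀ a b c, lv a ≠ lv b → lv b ≠ lv c → lv a ≠ lv c → ∀ t u,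
      X a b t * X b c u = X a c (t * u) * X b c u * X a b t := by
    intro a b c h1 h2 h3 t u
    have n1 := lv_ne.1 h1
    have n2 := lv_ne.1 h2
    have n3 := lv_ne.1 h3
    have h1' : lv a ≠ lv (ng b) := by rwa [lv_ng]
    set g := X a b t with hgd
    set Z := yl (ng c) v₁ with hZd
    set A := yl a (t • u • w₁) with hAd
    set R := X a (ng b) (t * qW (u • w₁)) with hRd
    set Yb := yl b (u • w₁) with hYd
    have hg := hX a b h1 t
    have cgZ : Commute g Z := L1 h1 (fun e => h2 (by rw [← e, lv_ng])) (fun e => n3.1 (ng_inj.1 e).symm) t v₁ hg (hyl _ _)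
    have cRZ : Commute R Z :=
      L1 h1' (fun e => n2.1 (ng_inj.1 e).symm) (fun e => n3.1 (ng_inj.1 e).symm) _ v₁ (hX _ _ h1' _) (hyl _ _)
    have cRX : Commute R (X b c u) :=
      hcommX a (ng b) b c h1' h2 n3.1 (ng_ne b) n1.2 (fun e => n2.1 (ng_inj.1 e)) _ _
    have cAX : Commute A (X b c u) := (L1 h2 n3.1 n1.2 u _ (hX b c h2 u) (hyl _ _)).symm
    have cXX : Commute (X a c (t * u)) (X b c u) :=
      hcommX a c b c h3 h2 n3.1 (fun e => n2.1 e.symm) n1.2 (ng_ne c).symm _ _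
    have hA : ⁅A, Z⁆ = X a c (t * u) := by
      show ⁅yl a (t • u • w₁), Z⁆ = ⁅yl a ((t * u) • w₁), Z⁆
      rw [smul_smul]
    have key : g * X b c u * g⁻¹ = X a c (t * u) * X b c u := by
      calc g * X b c u * g⁻¹ = ⁅g * Yb * g⁻¹, g * Z * g⁻¹⁆ := by
            show g * ⁅Yb, Z⁆ * g⁻¹ = _
            simp only [commutatorElement_def]; group
        _ = ⁅A * (R * Yb), Z⁆ := by
            refine Schur.commutator_congr hz ?_ (by rw [conj_fix cgZ])
            rw [map_mul, map_mul, map_inv, hg, hyl, map_mul, map_mul, hyl, hX _ _ h1', hyl, φ.xy1 a b h1,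
              mul_inv_cancel_right, mul_assoc]
        _ = _ := by
            rw [comm_mul_left, comm_mul_left, commutatorElement_eq_one_iff_commute.2 cRZ, mul_one, hA,
              show ⁅Yb, Z⁆ = X b c u from rfl, conj_fix cRX, conj_fix cAX, cXX.eq]
    rw [← key, inv_mul_cancel_right]
  have hcomm2 : ∀ a b, lv a ≠ lv b → ∀ t u, Commute (X a b t) (X a (ng b) u) := by
    intro a b h t u
    rcases eq_or_ne t 0 with rfl | ht
    · rw [hzero a b h]; exact Commute.one_left _
    obtain ⟨c, hac, hbc⟩ := RelsD.exists_third hn a b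
    set s := u / t with hs
    set f := X a c (-t) with hf
    set g1 := X c b 1 with hg1
    set g2 := X c (ng b) s with hg2
    set r1 := X a b t with hr1
    set r2 := X a (ng b) u with hr2
    set r3 := X c (ng a) (-u) with hr3
    have hb' : lv a ≠ lv (ng b) := by rwa [lv_ng]
    have hcb' : lv c ≠ lv (ng b) := by rw [lv_ng]; exact hbc.symm
    have hca' : lv c ≠ lv (ng a) := by rw [lv_ng]; exact hac.symm
    have e1 : g1 * f * g1⁻¹ = r1 * f := by
      have := hchain a c b hac hbc.symm h (-t) 1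
      rw [mul_one, hneg a b h, ← hr1, ← hg1, ← hf] at this
      calc g1 * f * g1⁻¹ = r1 * (r1⁻¹ * g1 * f) * g1⁻¹ := by group
        _ = r1 * (f * g1) * g1⁻¹ := by rw [← this]
        _ = _ := by group
    have e2 : g2 * f * g2⁻¹ = r2 * f := by
      have := hchain a c (ng b) hac hcb' hb' (-t) s
      rw [show -t * s = -u by rw [hs]; field_simp, hneg _ _ hb', ← hr2, ← hg2, ← hf] at this
      calc g2 * f * g2⁻¹ = r2 * (r2⁻¹ * g2 * f) * g2⁻¹ := by group
        _ = r2 * (f * g2) * g2⁻¹ := by rw [← this]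
        _ = _ := by group
    have e3 : g1 * r2 * g1⁻¹ = r3 * r2 := by
      have hr : r2 = X b (ng a) (-u) := by
        rw [hr2, ← hsymm b (ng a) (by rw [lv_ng]; exact h.symm), ng_ng]
      have := hchain c b (ng a) hbc.symm (by rw [lv_ng]; exact h.symm) hca' 1 (-u)
      rw [one_mul, ← hr, ← hg1, ← hr3] at this
      rw [this, mul_inv_cancel_right]
    have e4 : g2 * r1 * g2⁻¹ = r3 * r1 := by
      have hr : r1 = X (ng b) (ng a) (-t) := by rw [hr1, hsymm a b h, neg_neg]
      have := hchain c (ng b) (ng a) hcb' (by rw [lv_ng, lv_ng]; exact h.symm) hca' s (-t)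
      rw [← hr, show s * -t = -u by rw [hs]; field_simp, ← hg2, ← hr3] at this
      rw [this, mul_inv_cancel_right]
    have hzc : g1 * g2 * (g2 * g1)⁻¹ ∈ Subgroup.center Γ := by
      apply hz
      rw [MonoidHom.mem_ker, map_mul, map_inv, map_mul, map_mul, hX c b hbc.symm, hX c (ng b) hcb',
        (φ.comm2 c b hbc.symm 1 s).eq, mul_inv_cancel]
    have key : g1 * g2 * f * (g1 * g2)⁻¹ = g2 * g1 * f * (g2 * g1)⁻¹ := by
      calc g1 * g2 * f * (g1 * g2)⁻¹
          = g1 * g2 * (g2 * g1)⁻¹ * (g2 * g1 * f * (g2 * g1)⁻¹) * (g1 * g2 * (g2 * g1)⁻¹)⁻¹ := by group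
        _ = g2 * g1 * f * (g2 * g1)⁻¹ := by
          rw [← Subgroup.mem_center_iff.1 hzc (g2 * g1 * f * (g2 * g1)⁻¹), mul_inv_cancel_right]
    have k1 : g1 * g2 * f * (g1 * g2)⁻¹ = r3 * r2 * (r1 * f) := by
      rw [show g1 * g2 * f * (g1 * g2)⁻¹ = g1 * (g2 * f * g2⁻¹) * g1⁻¹ by group, e2,
        show g1 * (r2 * f) * g1⁻¹ = g1 * r2 * g1⁻¹ * (g1 * f * g1⁻¹) by group, e3, e1]
    have k2 : g2 * g1 * f * (g2 * g1)⁻¹ = r3 * r1 * (r2 * f) := by
      rw [show g2 * g1 * f * (g2 * g1)⁻¹ = g2 * (g1 * f * g1⁻¹) * g2⁻¹ by group, e1,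
        show g2 * (r1 * f) * g2⁻¹ = g2 * r1 * g2⁻¹ * (g2 * f * g2⁻¹) by group, e4, e2]
    rw [k1, k2] at key
    simp only [mul_assoc, mul_left_cancel_iff] at key
    rw [← mul_assoc, ← mul_assoc, mul_right_cancel_iff] at key
    exact key.symm
  -- short root elements
  choose cy hcy using fun a : SIdx n => ylevel a a
  let E : SIdx n → SIdx n → K → (κ → K) → Γ := fun a c t w =>
    ⁅X a c t, yl c w⁆ * (X a (ng c) (t * qW w))⁻¹
  have hE : ∀ a c, lv a ≠ lv c → ∀ t w, π (E a c t w) = φ.y a (t • w) := by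
    intro a c h t w
    rw [map_mul, map_inv, map_commutatorElement, hX a c h, hyl, hX a (ng c) (by rwa [lv_ng]),
      commutatorElement_def, φ.xy1 a c h]
    group
  have hEstep : ∀ a c d, lv a ≠ lv c → lv a ≠ lv d → lv c ≠ lv d → ∀ t s w,
      E a c t (s • w) = E a d (t * s) w := by
    intro a c d hac had hcd t s w
    have n1 := lv_ne.1 hac
    have n2 := lv_ne.1 had
    have n3 := lv_ne.1 hcd
    have hac' : lv a ≠ lv (ng c) := by rwa [lv_ng]
    have had' : lv a ≠ lv (ng d) := by rwa [lv_ng]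
    have hcd' : lv c ≠ lv (ng d) := by rwa [lv_ng]
    have hdc' : lv d ≠ lv (ng c) := by rw [lv_ng]; exact hcd.symm
    set A := X a c t with hA
    set B := X c d s with hB0
    set Y := yl d w with hY
    set R := X c (ng d) (s * qW w) with hR
    set M := X a d (t * s) with hM
    set V := ⁅B, Y⁆ with hV
    set N := X a (ng c) (-(t * s * (s * qW w))) with hN
    set M' := X a (ng d) (t * s * qW w) with hM'
    have hπV : π V = φ.y c (s • w) * φ.x c (ng d) (s * qW w) := by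
      rw [hV, map_commutatorElement, hX c d hcd, hyl, commutatorElement_def, φ.xy1 c d hcd]
      group
    have hπVR : π (V * R⁻¹) = φ.y c (s • w) := by
      rw [map_mul, map_inv, hπV, hX _ _ hcd', mul_inv_cancel_right]
    have cAY : Commute A Y := L1 hac n3.1.symm (fun e => had (by rw [e, lv_ng])) t w (hX _ _ hac _) (hyl _ _)
    have eB : A * B * A⁻¹ = M * B := by
      rw [hA, hB0, hchain a c d hac hcd had, mul_inv_cancel_right]
    have eR : A * R * A⁻¹ = M' * R := by
      rw [hA, hR, hchain a c (ng d) hac hcd' had', mul_inv_cancel_right, hM', mul_assoc t]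
    have eMR : M * R * M⁻¹ = N * R := by
      have er : R = X d (ng c) (-(s * qW w)) := by
        rw [hR, ← hsymm d (ng c) hdc', ng_ng]
      rw [hM, er, hchain a d (ng c) had hdc' hac', mul_inv_cancel_right, hN, mul_neg]
    have cNY : ∀ v, ∀ {g : Γ}, π g = φ.y c v → Commute N g := fun v g hg =>
      L1 hac' (ng_ne c).symm (fun e => n1.2 (by rw [e, ng_ng])) _ v (hX _ _ hac' _) hg
    have cMY : Commute M (V * R⁻¹) :=
      L1 had n3.1 (fun e => n1.2 (by rw [e, ng_ng])) _ _ (hX _ _ had _) hπVR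
    have eMV : M * V * M⁻¹ = N * V := by
      calc M * V * M⁻¹ = M * (V * R⁻¹) * M⁻¹ * (M * R * M⁻¹) := by group
        _ = V * R⁻¹ * N * R := by rw [conj_fix cMY, eMR]; group
        _ = N * (V * R⁻¹) * R := by rw [(cNY _ hπVR).eq]
        _ = N * V := by group
    have eAV : A * V * A⁻¹ = N * V * ⁅M, Y⁆ := by
      calc A * V * A⁻¹ = ⁅A * B * A⁻¹, A * Y * A⁻¹⁆ := by
            rw [hV]; simp only [commutatorElement_def]; group
        _ = ⁅M * B, Y⁆ := by rw [eB, conj_fix cAY]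
        _ = _ := by rw [comm_mul_left, ← hV, eMV]
    set G' := ⁅M, Y⁆ * M'⁻¹ with hG'
    have hπG : π G' = φ.y a ((t * s) • w) := hE a d had (t * s) w
    have cRG : Commute R G' :=
      L1 hcd' n2.2 n1.2 _ _ (hX _ _ hcd' _) hπG
    have cRM : Commute R M' := by
      refine hcommX c (ng d) a (ng d) hcd' had' (fun e => hcd (by rw [e, lv_ng])) (fun e => had (by rw [← e, lv_ng]))
        (fun e => n1.2 (by rw [e, ng_ng])) (ng_ne _).symm _ _
    have k : ⁅A, V * R⁻¹⁆ = N * (V * G' * V⁻¹) := by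
      have e : A * R⁻¹ * A⁻¹ = R⁻¹ * M'⁻¹ := by
        rw [show A * R⁻¹ * A⁻¹ = (A * R * A⁻¹)⁻¹ by group, eR]; group
      calc ⁅A, V * R⁻¹⁆ = A * V * A⁻¹ * (A * R⁻¹ * A⁻¹) * (R * V⁻¹) := by
            simp only [commutatorElement_def]; group
        _ = N * V * (⁅M, Y⁆ * (R⁻¹ * M'⁻¹)) * (R * V⁻¹) := by rw [eAV, e]; group
        _ = N * V * (G' * R⁻¹) * (R * V⁻¹) := by
            rw [hG', show R⁻¹ * M'⁻¹ = M'⁻¹ * R⁻¹ from cRM.inv_inv.eq, mul_assoc ⁅M, Y⁆]
        _ = _ := by group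
    have eVG : V * G' * V⁻¹ = X a (ng c) (2 * (t * s * (s * qW w))) * G' := by
      have e1 : V * G' * V⁻¹ = yl c (s • w) * (R * G' * R⁻¹) * (yl c (s • w))⁻¹ := by
        have hk : (yl c (s • w) * R)⁻¹ * V ∈ Subgroup.center Γ := hz (by
          rw [MonoidHom.mem_ker, map_mul, map_inv, map_mul, hyl, hX _ _ hcd', hπV, inv_mul_cancel])
        set k := (yl c (s • w) * R)⁻¹ * V with hk0
        calc V * G' * V⁻¹ = yl c (s • w) * R * (k * G' * k⁻¹) * (yl c (s • w) * R)⁻¹ := by rw [hk0]; group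
          _ = yl c (s • w) * R * G' * (yl c (s • w) * R)⁻¹ := by
            rw [← Subgroup.mem_center_iff.1 hk G', mul_inv_cancel_right]
          _ = _ := by group
      rw [e1, conj_fix cRG]
      have e2 : ⁅yl c (s • w), G'⁆ = ⁅yl c (s • w), yl a ((t * s) • w)⁆ :=
        Schur.commutator_congr hz rfl (by rw [hπG, hyl])
      have e3 : X c (ng a) (-P (s • w) ((t * s) • w)) = X a (ng c) (2 * (t * s * (s * qW w))) := by
        rw [← ng_ng c, hsymm a (ng c) hac', ng_ng]
        congr 1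
        simp only [hP, QuadraticMap.polar_smul_left, QuadraticMap.polar_smul_right, QuadraticMap.polar_self,
          smul_eq_mul, two_nsmul]
        ring
      rw [← e3, ← hyX c a hac.symm, ← e2, commutatorElement_def]
      group
    have hq : qW (s • w) = s * (s * qW w) := by rw [QuadraticMap.map_smul, smul_eq_mul, mul_assoc]
    show ⁅A, yl c (s • w)⁆ * (X a (ng c) (t * qW (s • w)))⁻¹ = G'
    rw [Schur.commutator_congr hz (a' := A) (b' := V * R⁻¹) rfl (by rw [hyl, hπVR]), k, eVG, hN, ← mul_assoc,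
      ← hadd a (ng c) hac', hq,
      show -(t * s * (s * qW w)) + 2 * (t * s * (s * qW w)) = t * (s * (s * qW w)) by ring,
      (L1 hac' n1.2 (ng_ne a).symm _ _ (hX _ _ hac' _) hπG).eq, mul_inv_cancel_right]
  have hEone : ∀ a c, lv a ≠ lv c → ∀ t w, E a c t w = E a (cy a) 1 (t • w) := by
    intro a c hac t w
    obtain ⟨d, had, hcd⟩ := ylevel a c
    have hcy' := (hcy a).1
    by_cases hl : lv c = lv (cy a)
    · have hd : lv (cy a) ≠ lv d := by rwa [← hl]
      have e1 := hEstep a c d hac had hcd t 1 w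
      have e2 := hEstep a (cy a) d hcy' had hd 1 t w
      rw [one_smul, mul_one] at e1
      rw [one_mul] at e2
      rw [e1, e2]
    · have e2 := hEstep a (cy a) c hcy' hac (Ne.symm hl) 1 t w
      rw [one_mul] at e2
      rw [e2]
  let Y : SIdx n → (κ → K) → Γ := fun a w => E a (cy a) 1 w
  have hY : ∀ a w, π (Y a w) = φ.y a w := fun a w => by rw [hE a (cy a) (hcy a).1, one_smul]
  have hyadd : ∀ a w v, Y a (w + v) = Y a w * Y a v := by
    intro a w v
    have hc := (hcy a).1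
    set c := cy a
    have n1 := lv_ne.1 hc
    have hc' : lv a ≠ lv (ng c) := by rwa [lv_ng]
    set A := X a c 1
    have cR : ∀ s u, Commute (yl c u) (X a (ng c) s) := fun s u =>
      (L1 hc' (ng_ne c).symm (fun e => n1.2 (by rw [e, ng_ng])) s u (hX _ _ hc' _) (hyl _ _)).symm
    have cY : ∀ s u, Commute (Y a u) (X a (ng c) s) := fun s u =>
      (L1 hc' n1.2 (ng_ne a).symm s u (hX _ _ hc' _) (hY a u)).symm
    have eA : ∀ u, ⁅A, yl c u⁆ = Y a u * X a (ng c) (qW u) := fun u => by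
      show _ = ⁅A, yl c u⁆ * (X a (ng c) (1 * qW u))⁻¹ * _
      rw [one_mul, inv_mul_cancel_right]
    have e1 : yl c w * Y a v * (yl c w)⁻¹ = X a (ng c) (P w v) * Y a v := by
      have e2 : ⁅yl c w, Y a v⁆ = X c (ng a) (-P w v) := by
        rw [Schur.commutator_congr hz (a' := yl c w) (b' := yl a v) rfl (by rw [hY, hyl]), hyX c a hc.symm]
      have e3 : X c (ng a) (-P w v) = X a (ng c) (P w v) := by
        rw [← ng_ng c, hsymm a (ng c) hc', ng_ng, neg_neg]
      rw [← e3, ← e2, commutatorElement_def]; group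
    have hq : qW (w + v) = qW w + qW v + P w v := QuadraticMap.map_add _ w v
    show ⁅A, yl c (w + v)⁆ * (X a (ng c) (1 * qW (w + v)))⁻¹ = _
    rw [Schur.commutator_congr hz (a' := A) (b' := yl c w * yl c v) rfl (by rw [map_mul, hyl, hyl, hyl, φ.yadd]),
      comm_mul_right, eA, eA, show yl c w * (Y a v * X a (ng c) (qW v)) * (yl c w)⁻¹ =
        yl c w * Y a v * (yl c w)⁻¹ * (yl c w * X a (ng c) (qW v) * (yl c w)⁻¹) by group,
      e1, conj_fix (cR _ _), one_mul, hq,
      show Y a w * X a (ng c) (qW w) * (X a (ng c) (P w v) * Y a v * X a (ng c) (qW v)) =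
        Y a w * (X a (ng c) (qW w) * X a (ng c) (P w v) * Y a v) * X a (ng c) (qW v) by group,
      ← hadd a (ng c) hc', (cY _ v).symm.eq,
      show qW w + qW v + P w v = qW w + P w v + qW v by ring, hadd a (ng c) hc' (qW w + P w v) (qW v)]
    group
  refine ⟨{ x := X, add := hadd, symm := hsymm, comm := hcommX, comm2 := hcomm2, chain := hchain,
            y := Y, yadd := hyadd, yy := ?_, xy0 := ?_, xy1 := ?_ }, hX, hY⟩
  · intro a b h w v
    have e : ⁅Y a w, Y b v⁆ = X a (ng b) (-P w v) := by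
      rw [Schur.commutator_congr hz (a' := yl a w) (b' := yl b v) (by rw [hY, hyl]) (by rw [hY, hyl]), hyX a b h]
    rw [← e, commutatorElement_def]; group
  · intro a b c h h1 h2 t w
    exact L1 h h1 h2 t w (hX a b h t) (hY c w)
  · intro a b h t w
    have e : Y a (t • w) = E a b t w := (hEone a b h t w).symm
    have e' : ⁅X a b t, Y b w⁆ = ⁅X a b t, yl b w⁆ := Schur.commutator_congr hz rfl (by rw [hY, hyl])
    rw [e]
    show _ = ⁅X a b t, yl b w⁆ * (X a (ng b) (t * qW w))⁻¹ * X a (ng b) (t * qW w) * Y b w * X a b t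
    rw [inv_mul_cancel_right, ← e', commutatorElement_def]
    group

end Cfsg.Agent.MultW
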