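import Cfsg.Agent.Lib.CurtisTits.Signed

/-!
The relations of the orthogonal group of a sum of hyperbolic planes and an anisotropic space `W`:
`x a b` belongs to the long root `ε_a - ε_b` and `y a` to the short root `ε_a`, parametrised by `W`.
-/

set_option autoImplicit false

namespace Cfsg.Agent.MultW

open Cfsg.Agent.CurtisTits DType

/-- The relations. -/
structure RelsW {K : Type*} [Field K] {κ : Type} (qW : QuadraticForm K (κ → K)) (n : ℕ) (G : Type*) [Group G]
    extends RelsD K n G where
  /-- the short root elements -/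
  y : SIdx n → (κ → K) → G
  yadd : ∀ a w v, y a (w + v) = y a w * y a v
  yy : ∀ a b, lv a ≠ lv b → ∀ w v,
    y a w * y b v = x a (ng b) (-QuadraticMap.polar (⇑qW) w v) * y b v * y a w
  xy0 : ∀ a b c, lv a ≠ lv b → c ≠ b → c ≠ ng a → ∀ t w, Commute (x a b t) (y c w)
  xy1 : ∀ a b, lv a ≠ lv b → ∀ t w, x a b t * y b w = y a (t • w) * x a (ng b) (t * qW w) * y b w * x a b t

namespace RelsW

variable {K : Type*} [Field K] {κ : Type} {qW : QuadraticForm K (κ → K)} {n : ℕ} {G : Type*} [Group G]
  (R : RelsW qW n G)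

theorem y_zero (a : SIdx n) : R.y a 0 = 1 := by
  have := R.yadd a 0 0
  rw [add_zero] at this
  exact left_eq_mul.1 this

theorem y_neg (a : SIdx n) (w : κ → K) : R.y a (-w) = (R.y a w)⁻¹ := by
  apply eq_inv_of_mul_eq_one_left
  rw [← R.yadd, neg_add_cancel, R.y_zero]

theorem y_comm (a : SIdx n) (w v : κ → K) : Commute (R.y a w) (R.y a v) := by
  show _ = _
  rw [← R.yadd, ← R.yadd, add_comm]

/-- The image of the relations under a homomorphism. -/
def push {H : Type*} [Group H] (f : G →* H) : RelsW qW n H where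
  x a b t := f (R.x a b t)
  add a b h t u := by rw [R.add a b h, map_mul]
  symm a b h t := by rw [R.symm a b h]
  comm a b c d h1 h2 h3 h4 h5 h6 t u := (R.comm a b c d h1 h2 h3 h4 h5 h6 t u).map f
  comm2 a b h t u := (R.comm2 a b h t u).map f
  chain a b c h1 h2 h3 t u := by rw [← map_mul, R.chain a b c h1 h2 h3 t u, map_mul, map_mul]
  y a w := f (R.y a w)
  yadd a w v := by rw [R.yadd, map_mul]
  yy a b h w v := by rw [← map_mul, R.yy a b h, map_mul, map_mul]
  xy0 a b c h h1 h2 t w := (R.xy0 a b c h h1 h2 t w).map f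
  xy1 a b h t w := by rw [← map_mul, R.xy1 a b h, map_mul, map_mul, map_mul]

end RelsW

end Cfsg.Agent.MultW
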